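import Mathlib.CategoryTheory.Sites.ConstantSheaf
import Mathlib.CategoryTheory.Sites.PreservesSheafification
import Mathlib.Algebra.Category.ModuleCat.Adjunctions
import Mathlib.Algebra.Category.ModuleCat.Abelian
import Mathlib.Algebra.Category.ModuleCat.Limits
import Mathlib.Algebra.Category.ModuleCat.FilteredColimits
import Mathlib.Algebra.Homology.ShortComplex.PreservesHomology
import Mathlib.Algebra.Homology.ShortComplex.ModuleCat
import Mathlib.Algebra.Module.FinitePresentation
import Mathlib.CategoryTheory.Linear.FunctorCategory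
import Mathlib.RingTheory.Flat.Tensor
import Mathlib.RingTheory.Finiteness.Cardinality

/-! Sections of constant sheaves of modules: an exact functor commuting with tensoring by finitely
presented modules. -/

universe u

open CategoryTheory CategoryTheory.Limits Opposite TensorProduct

set_option backward.isDefEq.respectTransparency false
set_option backward.isDefEq.respectTransparency.types false

namespace Groth.Agent.ConstSec16

variable {C : Type u} [SmallCategory C] (J : GrothendieckTopology C) (Λ : Type u) [CommRing Λ] (U : C)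

/-- sections over `U` of the constant sheaf on `M` -/
noncomputable def sec : ModuleCat.{u} Λ ⥤ ModuleCat.{u} Λ :=
  constantSheaf J (ModuleCat.{u} Λ) ⋙ (sheafSections J (ModuleCat.{u} Λ)).obj (op U)

instance : PreservesFiniteLimits (sec J Λ U) := by
  haveI : PreservesFiniteLimits (constantSheaf J (ModuleCat.{u} Λ)) := comp_preservesFiniteLimits _ _
  haveI : PreservesFiniteLimits ((sheafSections J (ModuleCat.{u} Λ)).obj (op U)) :=
    inferInstanceAs (PreservesFiniteLimits
      (sheafToPresheaf J (ModuleCat.{u} Λ) ⋙ (evaluation Cᵒᵖ (ModuleCat.{u} Λ)).obj (op U)))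
  exact comp_preservesFiniteLimits _ _

instance : (sec J Λ U).Additive := Functor.additive_of_preserves_binary_products _

lemma sec_map_smul {M N : ModuleCat.{u} Λ} (r : Λ) (f : M ⟶ N) :
    (sec J Λ U).map (r • f) = r • (sec J Λ U).map f := by
  have h : sheafifyMap J ((Functor.const Cᵒᵖ).map (r • f)) =
      r • sheafifyMap J ((Functor.const Cᵒᵖ).map f) := by
    apply sheafify_hom_ext J _ _ ((constantSheaf J (ModuleCat.{u} Λ)).obj N).property
    refine (toSheafify_naturality J ((Functor.const Cᵒᵖ).map (r • f))).symm.trans ?_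
    refine Eq.trans ?_ (CategoryTheory.Linear.comp_smul ..).symm
    refine Eq.trans ?_ (congrArg (r • ·) (toSheafify_naturality J ((Functor.const Cᵒᵖ).map f)))
    exact (CategoryTheory.Linear.smul_comp _ _ _ r ((Functor.const Cᵒᵖ).map f) _)
  exact congrArg (fun g => g.app (op U)) h

/-- a surjection of modules is surjective on sections of the constant sheaves -/
lemma surjective_sec_map {M N : ModuleCat.{u} Λ} (g : M ⟶ N) (hg : Function.Surjective g) :
    Function.Surjective ((sec J Λ U).map g) := by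
  let i := constantCommuteCompose J (forget (ModuleCat.{u} Λ))
  let σ : (forget (ModuleCat.{u} Λ)).obj N ⟶ (forget (ModuleCat.{u} Λ)).obj M :=
    ↾fun b => Function.surjInv hg b
  have hσ : σ ≫ (forget (ModuleCat.{u} Λ)).map g = 𝟙 _ := by
    ext b
    exact Function.surjInv_eq hg b
  change Function.Surjective (((constantSheaf J (ModuleCat.{u} Λ)).map g).hom.app (op U))
  have hτ : (i.hom.app N ≫ (constantSheaf J (Type u)).map σ ≫ i.inv.app M) ≫
      (sheafCompose J (forget (ModuleCat.{u} Λ))).map
        ((constantSheaf J (ModuleCat.{u} Λ)).map g) = 𝟙 _ := by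
    have := i.inv.naturality g
    simp only [Functor.comp_map] at this
    rw [Category.assoc, Category.assoc, ← this, ← Category.assoc ((constantSheaf J (Type u)).map σ),
      ← CategoryTheory.Functor.map_comp, hσ, CategoryTheory.Functor.map_id, Category.id_comp,
      i.hom_inv_id_app]
  intro s
  have e := congr_arg (fun f => f.hom.app (op U)) hτ
  exact ⟨(i.hom.app N ≫ (constantSheaf J (Type u)).map σ ≫ i.inv.app M).hom.app (op U) s,
    ConcreteCategory.congr_hom e s⟩

/-- `sec` maps exact sequences to exact sequences -/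
lemma exact_sec_map {A B D : ModuleCat.{u} Λ} (f : A ⟶ B) (g : B ⟶ D) (h : Function.Exact f g) :
    Function.Exact ((sec J Λ U).map f) ((sec J Λ U).map g) := by
  let K : ModuleCat.{u} Λ := ModuleCat.of Λ (LinearMap.ker g.hom)
  let ι : K ⟶ B := ModuleCat.ofHom (LinearMap.ker g.hom).subtype
  let f' : A ⟶ K := ModuleCat.ofHom (f.hom.codRestrict _ fun a => h.apply_apply_eq_zero a)
  have hf' : Function.Surjective f' := by
    rintro ⟨b, hb⟩
    obtain ⟨a, rfl⟩ := (h b).1 hb
    exact ⟨a, Subtype.ext rfl⟩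
  let S : ShortComplex (ModuleCat.{u} Λ) := ShortComplex.mk ι g (by ext x; exact x.2)
  have hS : S.Exact := by
    rw [ShortComplex.moduleCat_exact_iff]
    intro b hb
    exact ⟨⟨b, hb⟩, rfl⟩
  haveI : Mono S.f := (ModuleCat.mono_iff_injective _).2 Subtype.val_injective
  have hm := hS.map_of_mono_of_preservesKernel (sec J Λ U) inferInstance inferInstance
  rw [ShortComplex.moduleCat_exact_iff] at hm
  have hcomp : (sec J Λ U).map f = (sec J Λ U).map f' ≫ (sec J Λ U).map ι := by
    rw [← CategoryTheory.Functor.map_comp]; rfl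
  intro x
  constructor
  · intro hx
    obtain ⟨k, hk⟩ := hm x hx
    obtain ⟨a, rfl⟩ := surjective_sec_map J Λ U f' hf' k
    exact ⟨a, by rw [hcomp]; exact hk⟩
  · rintro ⟨a, rfl⟩
    have : f ≫ g = 0 := by ext a; exact h.apply_apply_eq_zero a
    have e := congrArg (sec J Λ U).map this
    rw [CategoryTheory.Functor.map_comp, Functor.map_zero] at e
    exact ConcreteCategory.congr_hom e a

lemma injective_sec_map {M N : ModuleCat.{u} Λ} (f : M ⟶ N) (hf : Function.Injective f) :
    Function.Injective ((sec J Λ U).map f) := by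
  haveI : Mono f := (ModuleCat.mono_iff_injective _).2 hf
  exact (ModuleCat.mono_iff_injective _).1 inferInstance

variable (M : Type u) [AddCommGroup M] [Module Λ M]

/-- `s ⊗ q ↦ (m ↦ m ⊗ q)(s)` -/
noncomputable def comp (Q : Type u) [AddCommGroup Q] [Module Λ Q] :
    (sec J Λ U).obj (ModuleCat.of Λ M) ⊗[Λ] Q →ₗ[Λ]
      (sec J Λ U).obj (ModuleCat.of Λ (M ⊗[Λ] Q)) :=
  TensorProduct.lift <| LinearMap.flip
    { toFun := fun q => ((sec J Λ U).map (ModuleCat.ofHom ((TensorProduct.mk Λ M Q).flip q))).hom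
      map_add' := fun q q' => by
        rw [map_add, ModuleCat.ofHom_add, Functor.map_add, ModuleCat.hom_add]
      map_smul' := fun r q => by
        rw [map_smul, RingHom.id_apply, show ModuleCat.ofHom (r • (TensorProduct.mk Λ M Q).flip q) =
          r • ModuleCat.ofHom ((TensorProduct.mk Λ M Q).flip q) from rfl, sec_map_smul]
        rfl }

variable {M}

lemma comp_tmul {Q : Type u} [AddCommGroup Q] [Module Λ Q] (s : (sec J Λ U).obj (ModuleCat.of Λ M))
    (q : Q) : comp J Λ U M Q (s ⊗ₜ q) =
      (sec J Λ U).map (ModuleCat.ofHom ((TensorProduct.mk Λ M Q).flip q)) s := rfl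

lemma comp_natural {Q Q' : Type u} [AddCommGroup Q] [Module Λ Q] [AddCommGroup Q'] [Module Λ Q']
    (g : Q →ₗ[Λ] Q') (x : (sec J Λ U).obj (ModuleCat.of Λ M) ⊗[Λ] Q) :
    comp J Λ U M Q' (g.lTensor _ x) =
      (sec J Λ U).map (ModuleCat.ofHom (g.lTensor M)) (comp J Λ U M Q x) := by
  induction x using TensorProduct.induction_on with
  | zero => simp
  | tmul s q =>
    rw [LinearMap.lTensor_tmul, comp_tmul, comp_tmul, ← ConcreteCategory.comp_apply,
      ← CategoryTheory.Functor.map_comp]
    congr 2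
  | add x y hx hy => simp only [map_add, hx, hy]

lemma bijective_comp_pi (n : ℕ) : Function.Bijective (comp J Λ U M (Fin n → Λ)) := by
  classical
  let pr (i : Fin n) : ModuleCat.of Λ (M ⊗[Λ] (Fin n → Λ)) ⟶ ModuleCat.of Λ M :=
    ModuleCat.ofHom ((TensorProduct.rid Λ M).toLinearMap.comp ((LinearMap.proj i).lTensor M))
  let e (i : Fin n) : ModuleCat.of Λ M ⟶ ModuleCat.of Λ (M ⊗[Λ] (Fin n → Λ)) :=
    ModuleCat.ofHom ((TensorProduct.mk Λ M (Fin n → Λ)).flip (Pi.single i 1))
  let ψ : (sec J Λ U).obj (ModuleCat.of Λ (M ⊗[Λ] (Fin n → Λ))) →ₗ[Λ]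
      (sec J Λ U).obj (ModuleCat.of Λ M) ⊗[Λ] (Fin n → Λ) :=
    ∑ i : Fin n, ((TensorProduct.mk Λ _ (Fin n → Λ)).flip (Pi.single i 1)).comp
      ((sec J Λ U).map (pr i)).hom
  have hq : ∀ q : Fin n → Λ, ∑ i, q i • Pi.single i (1 : Λ) = q := fun q => by
    rw [← Finset.univ_sum_single q]
    exact Finset.sum_congr rfl fun i _ => by
      rw [Finset.univ_sum_single, ← Pi.single_smul, smul_eq_mul, mul_one]
  have hid : ∑ i, pr i ≫ e i = 𝟙 _ := by
    apply ModuleCat.hom_ext
    rw [ModuleCat.hom_sum]
    apply TensorProduct.ext'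
    intro m q
    simp only [LinearMap.coe_sum, Finset.sum_apply]
    show ∑ i, (q i • m) ⊗ₜ[Λ] (Pi.single i (1 : Λ)) = m ⊗ₜ q
    conv_rhs => rw [← hq q]
    rw [TensorProduct.tmul_sum]
    simp only [TensorProduct.smul_tmul]
  have h1 : ∀ t, comp J Λ U M (Fin n → Λ) (ψ t) = t := fun t => by
    simp only [ψ, LinearMap.coe_sum, Finset.sum_apply, LinearMap.comp_apply, map_sum]
    have : ∑ i, (sec J Λ U).map (pr i ≫ e i) = 𝟙 _ := by
      rw [← Functor.map_sum, hid, CategoryTheory.Functor.map_id]
    conv_rhs => rw [← ModuleCat.id_apply _ t, ← this]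
    simp only [ModuleCat.hom_sum, LinearMap.coe_sum, Finset.sum_apply]
    refine Finset.sum_congr rfl fun i _ => ?_
    rw [CategoryTheory.Functor.map_comp]
    rfl
  have h2 : ψ.comp (comp J Λ U M (Fin n → Λ)) = LinearMap.id := by
    apply TensorProduct.ext'
    intro s q
    rw [LinearMap.comp_apply, LinearMap.id_apply, comp_tmul]
    simp only [ψ, LinearMap.coe_sum, Finset.sum_apply, LinearMap.comp_apply]
    conv_rhs => rw [← hq q, TensorProduct.tmul_sum]
    refine Finset.sum_congr rfl fun i _ => ?_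
    have hc : ModuleCat.ofHom ((TensorProduct.mk Λ M (Fin n → Λ)).flip q) ≫ pr i =
        q i • 𝟙 (ModuleCat.of Λ M) := by ext m; rfl
    rw [LinearMap.flip_apply, TensorProduct.mk_apply,
      ← ConcreteCategory.comp_apply, ← CategoryTheory.Functor.map_comp, hc, sec_map_smul,
      CategoryTheory.Functor.map_id, TensorProduct.tmul_smul]
    exact (TensorProduct.smul_tmul' (q i) s (Pi.single i (1 : Λ) : Fin n → Λ)).symm
  exact ⟨Function.LeftInverse.injective (g := ψ) (fun x => LinearMap.congr_fun h2 x),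
    fun t => ⟨ψ t, h1 t⟩⟩

lemma bijective_comp (Q : Type u) [AddCommGroup Q] [Module Λ Q] [Module.FinitePresentation Λ Q] :
    Function.Bijective (comp J Λ U M Q) := by
  obtain ⟨n, π, hπ⟩ := Module.Finite.exists_fin' Λ Q
  obtain ⟨m, g₀, hg₀⟩ := (Submodule.fg_iff_exists_fin_linearMap Λ (Fin n → Λ)).1
    (Module.FinitePresentation.fg_ker π hπ)
  have hex : Function.Exact g₀ π := LinearMap.exact_iff.2 hg₀.symm
  have exF := exact_sec_map J Λ U (ModuleCat.ofHom (g₀.lTensor M)) (ModuleCat.ofHom (π.lTensor M))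
    (lTensor_exact M hex hπ)
  constructor
  · rw [injective_iff_map_eq_zero]
    intro y hy
    obtain ⟨x, rfl⟩ := LinearMap.lTensor_surjective _ hπ y
    rw [comp_natural] at hy
    obtain ⟨z, hz⟩ := (exF _).1 hy
    obtain ⟨w, rfl⟩ := (bijective_comp_pi J Λ U (M := M) m).2 z
    rw [← comp_natural] at hz
    obtain rfl := (bijective_comp_pi J Λ U (M := M) n).1 hz
    rw [← LinearMap.comp_apply, ← LinearMap.lTensor_comp, hex.linearMap_comp_eq_zero,
      LinearMap.lTensor_zero, LinearMap.zero_apply]
  · intro t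
    obtain ⟨t', rfl⟩ := surjective_sec_map J Λ U (ModuleCat.ofHom (π.lTensor M))
      (LinearMap.lTensor_surjective M hπ) t
    obtain ⟨x, rfl⟩ := (bijective_comp_pi J Λ U (M := M) n).2 t'
    exact ⟨π.lTensor _ x, comp_natural J Λ U π x⟩

lemma flat_sec (hΛ : ∀ I : Ideal Λ, I.FG → Module.FinitePresentation Λ I) [Module.Flat Λ M] :
    Module.Flat Λ ((sec J Λ U).obj (ModuleCat.of Λ M)) := by
  refine Module.Flat.iff_lTensor_injective.2 fun I hI => ?_
  haveI := hΛ I hI
  intro x y hxy
  apply (bijective_comp J Λ U (M := M) I).1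
  apply injective_sec_map J Λ U (ModuleCat.ofHom (I.subtype.lTensor M))
    (Module.Flat.lTensor_preserves_injective_linearMap _ Subtype.val_injective)
  rw [← comp_natural, ← comp_natural, hxy]

end Groth.Agent.ConstSec16
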